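import Mathlib
import Cfsg.Agent.S0756

/-!
# Discriminants of symmetric bilinear forms over finite fields of odd order.
-/

set_option autoImplicit false

namespace H30

open Matrix Module

section basic

variable {F V : Type*} [Field F] [AddCommGroup V] [Module F V]

/-- Gram determinants in two bases differ by a non-zero square. -/
theorem det_gram_change {ι κ : Type*} [Fintype ι] [DecidableEq ι] [Fintype κ] [DecidableEq κ]
    (b : Basis ι F V) (c : Basis κ F V) (B : LinearMap.BilinForm F V) :
    ∃ r : F, r ≠ 0 ∧ (LinearMap.BilinForm.toMatrix c B).det = r ^ 2 * (LinearMap.BilinForm.toMatrix b B).det := by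
  let e : ι ≃ κ := b.indexEquiv c
  let c' : Basis ι F V := c.reindex e.symm
  have h1 : (LinearMap.BilinForm.toMatrix c' B).det = (LinearMap.BilinForm.toMatrix c B).det := by
    rw [← Matrix.det_reindex_self e.symm]
    congr 1
    ext i j
    simp [c', LinearMap.BilinForm.toMatrix_apply]
  refine ⟨(b.toMatrix c').det, ?_, ?_⟩
  · have := b.toMatrix_mul_toMatrix_flip c'
    intro h
    have h2 := congrArg Matrix.det this
    rw [det_mul, h, det_one] at h2
    simp at h2
  · rw [← h1, ← LinearMap.BilinForm.toMatrix_mul_basis_toMatrix b c' B, det_mul, det_mul, det_transpose]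
    ring

theorem det_fromBlocks_zero₁₁ {n R : Type*} [Fintype n] [DecidableEq n] [CommRing R]
    (A B C : Matrix n n R) :
    (fromBlocks 0 A B C).det = (-1) ^ Fintype.card n * A.det * B.det := by
  have h1 : fromBlocks 0 A B C * Matrix.J n R = fromBlocks A 0 C (-B) := by
    simp [Matrix.J, fromBlocks_multiply]
  have h2 := congrArg Matrix.det h1
  rw [det_mul, SymplecticGroup.det_eq_one (SymplecticGroup.J_mem n R), mul_one,
    det_fromBlocks_zero₁₂, det_neg] at h2
  rw [h2]; ring

variable [FiniteDimensional F V]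

/-- A basis indexed by `Fin n ⊕ Fin k` whose first part spans a given subspace. -/
theorem exists_basis_extending (X : Submodule F V) {n k : ℕ} (hX : finrank F X = n)
    (hV : finrank F V = n + k) :
    ∃ b : Basis (Fin n ⊕ Fin k) F V, (∀ i, b (Sum.inl i) ∈ X) ∧
      X = Submodule.span F (Set.range fun i => b (Sum.inl i)) := by
  obtain ⟨Y, hXY⟩ := X.exists_isCompl
  have hY : finrank F Y = k := by
    have := Submodule.finrank_add_eq_of_isCompl hXY
    omega
  let bX := finBasisOfFinrankEq F X hX
  let bY := finBasisOfFinrankEq F Y hY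
  have key : ∀ i, ((bX.prod bY).map (Submodule.prodEquivOfIsCompl X Y hXY)) (Sum.inl i) = bX i := by
    intro i
    simp [Submodule.coe_prodEquivOfIsCompl']
  refine ⟨(bX.prod bY).map (Submodule.prodEquivOfIsCompl X Y hXY), fun i => ?_, ?_⟩
  · rw [key]; exact (bX i).2
  · simp only [key]
    have := congrArg (Submodule.map X.subtype) bX.span_eq
    rw [Submodule.map_span, Submodule.map_subtype_top, ← Set.range_comp] at this
    exact this.symm

/-- A form with a totally isotropic subspace of half the dimension has discriminant `(-1)^n`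
up to squares. -/
theorem isSquare_disc_of_isotropic {ι : Type*} [Fintype ι] [DecidableEq ι] (b : Basis ι F V)
    (B : LinearMap.BilinForm F V) (hS : ∀ x y, B x y = B y x) {n : ℕ} (hV : finrank F V = 2 * n)
    (X : Submodule F V) (hX : finrank F X = n) (h0 : ∀ x ∈ X, ∀ y ∈ X, B x y = 0) :
    IsSquare ((-1) ^ n * (LinearMap.BilinForm.toMatrix b B).det) := by
  obtain ⟨c, hc, -⟩ := exists_basis_extending X hX (k := n) (by omega)
  obtain ⟨r, -, hr⟩ := det_gram_change c b B
  set G := LinearMap.BilinForm.toMatrix c B with hG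
  have h1 : G = fromBlocks 0 G.toBlocks₁₂ (G.toBlocks₁₂)ᵀ G.toBlocks₂₂ := by
    ext (i | i) (j | j)
    · simp [hG, LinearMap.BilinForm.toMatrix_apply, h0 _ (hc i) _ (hc j)]
    · simp [toBlocks₁₂]
    · simp [toBlocks₁₂, hG, LinearMap.BilinForm.toMatrix_apply, hS]
    · simp [toBlocks₂₂]
  rw [hr, h1, det_fromBlocks_zero₁₁, det_transpose, Fintype.card_fin]
  refine ⟨r * G.toBlocks₁₂.det, ?_⟩
  have : ((-1 : F) ^ n) * (-1) ^ n = 1 := by rw [← mul_pow]; simp
  linear_combination (r ^ 2 * G.toBlocks₁₂.det ^ 2) * this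

end basic

section finite

variable {F V W : Type*} [Field F] [Finite F] [AddCommGroup V] [Module F V] [FiniteDimensional F V]
  [AddCommGroup W] [Module F W] [FiniteDimensional F W]

omit [Finite F] in
theorem ringChar_ne_two (h2 : (2 : F) ≠ 0) : ringChar F ≠ 2 := by
  intro h
  apply h2
  have := ringChar.Nat.cast_ringChar (R := F)
  rw [h] at this
  exact_mod_cast this

/-- Two non-degenerate symmetric forms of the same dimension over a finite field of odd order whose
discriminants agree up to squares are isometric. -/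
theorem exists_isometry_of_disc (h2 : (2 : F) ≠ 0) {ι κ : Type*} [Fintype ι] [DecidableEq ι]
    [Fintype κ] [DecidableEq κ] (b : Basis ι F V) (c : Basis κ F W) (B : LinearMap.BilinForm F V)
    (C : LinearMap.BilinForm F W) (hB : B.Nondegenerate) (hC : C.Nondegenerate) (hBs : B.IsSymm)
    (hCs : C.IsSymm) (hdim : finrank F V = finrank F W)
    (hsq : IsSquare ((LinearMap.BilinForm.toMatrix b B).det * (LinearMap.BilinForm.toMatrix c C).det)) :
    ∃ g : V ≃ₗ[F] W, ∀ x y, C (g x) (g y) = B x y := by
  rcases hn : finrank F V with _ | n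
  · have : Subsingleton V := finrank_zero_iff.mp hn
    have : Subsingleton W := finrank_zero_iff.mp (hdim ▸ hn)
    refine ⟨LinearEquiv.ofSubsingleton V W, fun x y => ?_⟩
    rw [Subsingleton.elim x 0]
    simp
  obtain ⟨α, hα⟩ := FiniteField.exists_nonsquare (F := F) (ringChar_ne_two h2)
  obtain ⟨b', hb1, hb2, hb3⟩ := Cfsg.Agent.S0756.result h2 B hBs hB hn α hα
  obtain ⟨c', hc1, hc2, hc3⟩ := Cfsg.Agent.S0756.result h2 C hCs hC (hdim ▸ hn) α hα
  have hdet : ∀ {U : Type _} [AddCommGroup U] [Module F U] (D : LinearMap.BilinForm F U)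
      (d : Basis (Fin (n + 1)) F U), (∀ i j, i ≠ j → D (d i) (d j) = 0) →
      (∀ i, i ≠ Fin.last n → D (d i) (d i) = 1) →
      (LinearMap.BilinForm.toMatrix d D).det = D (d (Fin.last n)) (d (Fin.last n)) := by
    intro U _ _ D d h1 h2
    have : LinearMap.BilinForm.toMatrix d D = diagonal fun i => D (d i) (d i) := by
      ext i j
      by_cases hij : i = j
      · subst hij; simp [LinearMap.BilinForm.toMatrix_apply]
      · simp [LinearMap.BilinForm.toMatrix_apply, hij, h1 i j hij]
    rw [this, det_diagonal, Fin.prod_univ_castSucc]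
    rw [Finset.prod_eq_one (fun i _ => h2 _ (Fin.castSucc_ne_last i)), one_mul]
  obtain ⟨r, hr0, hr⟩ := det_gram_change b b' B
  obtain ⟨s, hs0, hs⟩ := det_gram_change c c' C
  have hdB : (LinearMap.BilinForm.toMatrix b' B).det = B (b' (Fin.last n)) (b' (Fin.last n)) := by
    have : LinearMap.BilinForm.toMatrix b' B = diagonal fun i => B (b' i) (b' i) := by
      ext i j
      by_cases hij : i = j
      · subst hij; simp [LinearMap.BilinForm.toMatrix_apply]
      · simp [LinearMap.BilinForm.toMatrix_apply, hij, hb1 i j hij]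
    rw [this, det_diagonal, Fin.prod_univ_castSucc]
    rw [Finset.prod_eq_one (fun i _ => hb2 _ (Fin.castSucc_ne_last i)), one_mul]
  rw [hdB] at hr
  rw [hdet C c' hc1 hc2] at hs
  have hsq' : IsSquare (B (b' (Fin.last n)) (b' (Fin.last n)) *
      C (c' (Fin.last n)) (c' (Fin.last n))) := by
    obtain ⟨t, ht⟩ := hsq
    refine ⟨r * s * t, ?_⟩
    rw [hr, hs]
    linear_combination (r ^ 2 * s ^ 2) * ht
  have heq : C (c' (Fin.last n)) (c' (Fin.last n)) = B (b' (Fin.last n)) (b' (Fin.last n)) := by
    rcases hb3 with h | h <;> rcases hc3 with h' | h' <;> rw [h, h'] at hsq' ⊢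
    · exact absurd (by simpa using hsq') hα
    · exact absurd (by simpa using hsq') hα
  have hmat : ∀ i j, C (c' i) (c' j) = B (b' i) (b' j) := by
    intro i j
    by_cases hij : i = j
    · subst hij
      by_cases hi : i = Fin.last n
      · rw [hi, heq]
      · rw [hb2 i hi, hc2 i hi]
    · rw [hb1 i j hij, hc1 i j hij]
  refine ⟨b'.equiv c' (Equiv.refl _), fun x y => ?_⟩
  have : C.compl₁₂ (b'.equiv c' (Equiv.refl _)).toLinearMap
      (b'.equiv c' (Equiv.refl _)).toLinearMap = B := by
    apply LinearMap.BilinForm.ext_basis b'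
    intro i j
    simp [hmat]
  rw [← this]
  simp

/-- A non-degenerate symmetric form of dimension `2 n` with discriminant `(-1)^n` up to squares has
a totally isotropic subspace of dimension `n`. -/
theorem exists_isotropic_of_isSquare_disc (h2 : (2 : F) ≠ 0) {ι : Type*} [Fintype ι]
    [DecidableEq ι] (b : Basis ι F V) (B : LinearMap.BilinForm F V) (hB : B.Nondegenerate) (hBs : B.IsSymm)
    {n : ℕ} (hV : finrank F V = 2 * n)
    (hsq : IsSquare ((-1) ^ n * (LinearMap.BilinForm.toMatrix b B).det)) :
    ∃ X : Submodule F V, finrank F X = n ∧ ∀ x ∈ X, ∀ y ∈ X, B x y = 0 := by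
  let c : Basis (Fin n ⊕ Fin n) F V :=
    (finBasisOfFinrankEq F V (show finrank F V = n + n by omega)).reindex finSumFinEquiv.symm
  let H : LinearMap.BilinForm F V := Matrix.toBilin c (fromBlocks 0 1 1 0)
  have hH : LinearMap.BilinForm.toMatrix c H = fromBlocks 0 1 1 0 := by simp [H]
  have hdet : (LinearMap.BilinForm.toMatrix c H).det = (-1) ^ n := by
    rw [hH, det_fromBlocks_zero₁₁]; simp
  have hHc : ∀ i j, H (c i) (c j) = (fromBlocks 0 1 1 0 : Matrix _ _ F) i j := by
    intro i j
    rw [← hH, LinearMap.BilinForm.toMatrix_apply]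
  have hHn : H.Nondegenerate := by
    rw [LinearMap.BilinForm.nondegenerate_iff_det_ne_zero c, hdet]
    simp
  have hHs : H.IsSymm := by
    rw [LinearMap.BilinForm.isSymm_iff_basis c]
    rintro (i | i) (j | j) <;> simp [hHc, Matrix.one_apply, eq_comm]
  obtain ⟨g, hg⟩ := exists_isometry_of_disc h2 c b H B hHn hB hHs hBs rfl (by rwa [hdet])
  have hli : LinearIndependent F (fun i : Fin n => g (c (Sum.inl i))) :=
    (c.linearIndependent.comp _ Sum.inl_injective).map' g.toLinearMap g.ker
  refine ⟨Submodule.span F (Set.range fun i : Fin n => g (c (Sum.inl i))), ?_, ?_⟩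
  · rw [finrank_span_eq_card hli, Fintype.card_fin]
  · intro x hx y hy
    induction hx, hy using Submodule.span_induction₂ with
    | mem_mem x y hx hy =>
      obtain ⟨i, rfl⟩ := hx
      obtain ⟨j, rfl⟩ := hy
      simp [hg, hHc]
    | zero_left => simp
    | zero_right => simp
    | add_left _ _ _ _ _ _ h1 h2 => simp [h1, h2]
    | add_right _ _ _ _ _ _ h1 h2 => simp [h1, h2]
    | smul_left _ _ _ _ _ h1 => simp [h1]
    | smul_right _ _ _ _ _ h1 => simp [h1]

end finite

section tensor

variable {F U W : Type*} [Field F] [AddCommGroup U] [Module F U] [AddCommGroup W] [Module F W]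

open Kronecker in
theorem toMatrix_tmul {ι κ : Type*} [Fintype ι] [DecidableEq ι] [Fintype κ] [DecidableEq κ]
    (b : Basis ι F U) (c : Basis κ F W) (B : LinearMap.BilinForm F U) (C : LinearMap.BilinForm F W) :
    LinearMap.BilinForm.toMatrix (b.tensorProduct c) (B.tmul C) =
      LinearMap.BilinForm.toMatrix b B ⊗ₖ LinearMap.BilinForm.toMatrix c C := by
  ext ⟨i, j⟩ ⟨k, l⟩
  simp [LinearMap.BilinForm.toMatrix_apply, Basis.tensorProduct_apply, mul_comm]

theorem det_toMatrix_tmul {ι κ : Type*} [Fintype ι] [DecidableEq ι] [Fintype κ] [DecidableEq κ]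
    (b : Basis ι F U) (c : Basis κ F W) (B : LinearMap.BilinForm F U) (C : LinearMap.BilinForm F W) :
    (LinearMap.BilinForm.toMatrix (b.tensorProduct c) (B.tmul C)).det =
      (LinearMap.BilinForm.toMatrix b B).det ^ Fintype.card κ *
        (LinearMap.BilinForm.toMatrix c C).det ^ Fintype.card ι := by
  rw [toMatrix_tmul, det_kronecker]

theorem nondegenerate_tmul [FiniteDimensional F U] [FiniteDimensional F W] {B : LinearMap.BilinForm F U}
    {C : LinearMap.BilinForm F W} (hB : B.Nondegenerate) (hC : C.Nondegenerate) :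
    LinearMap.BilinForm.Nondegenerate (B.tmul C) := by
  rw [LinearMap.BilinForm.nondegenerate_iff_det_ne_zero ((finBasis F U).tensorProduct (finBasis F W)),
    det_toMatrix_tmul]
  exact mul_ne_zero (pow_ne_zero _ ((LinearMap.BilinForm.nondegenerate_iff_det_ne_zero _).mp hB))
    (pow_ne_zero _ ((LinearMap.BilinForm.nondegenerate_iff_det_ne_zero _).mp hC))

end tensor

end H30
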